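import Cfsg.Agent.H865.L5.Base
import Cfsg.Agent.LieClassical.SLGen

/-!
# S5923 (M7): computations in `SL₃(5)` (helper513)
-/

set_option autoImplicit false
set_option linter.unusedSectionVars false
set_option linter.unusedSimpArgs false
set_option linter.unnecessarySeqFocus false

namespace Cfsg.Agent.H513.L5.ThB

open Cfsg.Agent.H865.L5

theorem ext3 {g h : SL35} (e : ∀ i j, g.1 i j = h.1 i j) : g = h := Subtype.ext (Matrix.ext e)

theorem us_mul (a b c a' b' c' : ZMod 5) : us a b c * us a' b' c' = us (a + a') (b' + a * c' + b) (c' + c) := by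
  apply ext3
  intro i j
  show (!![1, a, b; 0, 1, c; 0, 0, 1] * !![1, a', b'; 0, 1, c'; 0, 0, 1] : Matrix (Fin 3) (Fin 3) (ZMod 5)) i j = _
  fin_cases i <;> fin_cases j <;> simp [us, Matrix.mul_apply, Fin.sum_univ_three] <;> ring

theorem us_one : us 0 0 0 = 1 := by
  apply ext3
  intro i j
  fin_cases i <;> fin_cases j <;> rfl

theorem us_inj {a b c a' b' c' : ZMod 5} (h : us a b c = us a' b' c') : a = a' ∧ b = b' ∧ c = c' := by
  have h1 := congrArg (fun g : SL35 => g.1 0 1) h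
  have h2 := congrArg (fun g : SL35 => g.1 0 2) h
  have h3 := congrArg (fun g : SL35 => g.1 1 2) h
  exact ⟨h1, h2, h3⟩

theorem vp_eq (a b : ZMod 5) : vp a b = us a b 0 := rfl

theorem vl_eq (a b : ZMod 5) : vl a b = us 0 a b := rfl

/-- upper triangular elements which centralize `us 0 1 0` -/
theorem cent_form {x : SL35} (h : x * us 0 1 0 = us 0 1 0 * x) :
    x.1 1 0 = 0 ∧ x.1 2 0 = 0 ∧ x.1 2 1 = 0 ∧ x.1 2 2 = x.1 0 0 ∧ x.1 0 0 ≠ 0 ∧ x.1 1 1 = x.1 0 0 * x.1 0 0 := by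
  have h0 : ∀ i j, (x.1 * (!![1, 0, 1; 0, 1, 0; 0, 0, 1] : Matrix (Fin 3) (Fin 3) (ZMod 5))) i j =
      ((!![1, 0, 1; 0, 1, 0; 0, 0, 1] : Matrix (Fin 3) (Fin 3) (ZMod 5)) * x.1) i j :=
    fun i j => congrArg (fun g : SL35 => g.1 i j) h
  have e1 := h0 0 0
  have e2 := h0 0 1
  have e3 := h0 0 2
  have e4 := h0 1 2
  simp [Matrix.mul_apply, Fin.sum_univ_three] at e1 e2 e3 e4
  have h5 := x.2
  rw [Matrix.det_fin_three] at h5
  rw [e1, e2, e4] at h5
  have h6 : x.1 2 2 = x.1 0 0 := by linear_combination -e3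
  rw [h6] at h5
  have h7 : x.1 0 0 ≠ 0 := by
    intro h
    rw [h] at h5
    simp at h5
  have h8 : (x.1 0 0) ^ 4 = 1 := ZMod.pow_card_sub_one_eq_one (p := 5) h7
  refine ⟨e4, e1, e2, h6, h7, ?_⟩
  have h9 : x.1 0 0 * x.1 0 0 * (x.1 0 0 * x.1 0 0 * x.1 1 1) = x.1 0 0 * x.1 0 0 := by
    rw [show x.1 0 0 * x.1 0 0 * x.1 1 1 = 1 by linear_combination h5, mul_one]
  linear_combination h9 - x.1 1 1 * h8

theorem cent_us {x : SL35} (h : x * us 0 1 0 = us 0 1 0 * x) {a b c a' b' c' : ZMod 5}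
    (h1 : x * us a b c = us a' b' c' * x) : x.1 0 0 * a = x.1 1 1 * a' ∧ x.1 1 1 * c = x.1 0 0 * c' := by
  obtain ⟨k1, k2, k3, k4, -, -⟩ := cent_form h
  have h0 : ∀ i j, (x.1 * !![1, a, b; 0, 1, c; 0, 0, 1]) i j = (!![1, a', b'; 0, 1, c'; 0, 0, 1] * x.1) i j :=
    fun i j => congrArg (fun g : SL35 => g.1 i j) h1
  have e1 := h0 0 1
  have e2 := h0 1 2
  simp [Matrix.mul_apply, Fin.sum_univ_three, k1, k2, k3, k4] at e1 e2
  constructor
  · linear_combination e1
  · linear_combination e2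

/-- the elements of the centralizer of `us 0 1 0` which fix `us 1 0 0` modulo the centre are in `US` -/
theorem mem_US {x : SL35} (h : x * us 0 1 0 = us 0 1 0 * x) {b : ZMod 5} (h1 : x * us 1 0 0 = us 1 b 0 * x) :
    ∃ p q r, x = us p q r := by
  obtain ⟨k1, k2, k3, k4, k5, k6⟩ := cent_form h
  obtain ⟨e1, -⟩ := cent_us h h1
  rw [k6, mul_one, mul_one] at e1
  have h2 : x.1 0 0 = 1 := by
    have : x.1 0 0 * (x.1 0 0 - 1) = 0 := by linear_combination -e1
    rcases mul_eq_zero.1 this with h | h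
    · exact absurd h k5
    · exact sub_eq_zero.1 h
  have h3 : x.1 1 1 = 1 := by rw [k6, h2, one_mul]
  have h4 : x.1 2 2 = 1 := by rw [k4, h2]
  refine ⟨x.1 0 1, x.1 0 2, x.1 1 2, ext3 fun i j => ?_⟩
  fin_cases i <;> fin_cases j
  · exact h2
  · rfl
  · rfl
  · exact k1
  · exact h3
  · rfl
  · exact k2
  · exact k3
  · exact h4

/-- the element which induces a given automorphism of `VP` -/
def pm (a b c d : ZMod 5) (h : a * d - b * c ≠ 0) : SL35 :=
  ⟨!![(a * d - b * c) ^ 3, 0, 0; 0, (a * d - b * c) ^ 2 * d, - ((a * d - b * c) ^ 2 * b);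
     0, - ((a * d - b * c) ^ 2 * c), (a * d - b * c) ^ 2 * a], by
    rw [Matrix.det_fin_three]
    have h8 : (a * d - b * c) ^ 4 = 1 := ZMod.pow_card_sub_one_eq_one (p := 5) h
    simp
    linear_combination ((a * d - b * c) ^ 4 + 1) * h8⟩

theorem pm_mul (a b c d : ZMod 5) (h : a * d - b * c ≠ 0) (s t : ZMod 5) :
    pm a b c d h * us s t 0 = us (s * a + t * c) (s * b + t * d) 0 * pm a b c d h := by
  apply ext3
  intro i j
  show (!![(a * d - b * c) ^ 3, 0, 0; 0, (a * d - b * c) ^ 2 * d, - ((a * d - b * c) ^ 2 * b);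
     0, - ((a * d - b * c) ^ 2 * c), (a * d - b * c) ^ 2 * a] * !![1, s, t; 0, 1, 0; 0, 0, 1] : Matrix _ _ (ZMod 5)) i j =
     (!![1, s * a + t * c, s * b + t * d; 0, 1, 0; 0, 0, 1] * !![(a * d - b * c) ^ 3, 0, 0; 0, (a * d - b * c) ^ 2 * d, - ((a * d - b * c) ^ 2 * b);
     0, - ((a * d - b * c) ^ 2 * c), (a * d - b * c) ^ 2 * a] : Matrix _ _ (ZMod 5)) i j
  fin_cases i <;> fin_cases j <;> simp [Matrix.mul_apply, Fin.sum_univ_three] <;> ring

/-- the reflection -/
def wm : SL35 := ⟨!![0, 0, 1; 0, -1, 0; 1, 0, 0], by rw [Matrix.det_fin_three]; decide⟩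

/-- the duality which maps `VP` to `VL` -/
def io' : SL35 ≃* SL35 := io.trans (MulAut.conj wm)

theorem io'_us (s t : ZMod 5) : io' (us s t 0) = us 0 (-t) s := by
  show wm * io (us s t 0) * wm⁻¹ = _
  rw [mul_inv_eq_iff_eq_mul, io_apply]
  have h1 : (us s t 0)⁻¹ = us (-s) (-t) 0 := by
    rw [inv_eq_iff_mul_eq_one, us_mul]
    simp [us_one]
  rw [h1]
  apply ext3
  intro i j
  show (!![0, 0, 1; 0, -1, 0; 1, 0, 0] * (!![1, -s, -t; 0, 1, 0; 0, 0, 1] : Matrix _ _ (ZMod 5)).transpose : Matrix _ _ (ZMod 5)) i j =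
     (!![1, 0, -t; 0, 1, s; 0, 0, 1] * !![0, 0, 1; 0, -1, 0; 1, 0, 0] : Matrix _ _ (ZMod 5)) i j
  fin_cases i <;> fin_cases j <;> simp [Matrix.mul_apply, Fin.sum_univ_three]

/-- the torus element `diag(2,4,2)` -/
def dm : SL35 := ⟨!![2, 0, 0; 0, 4, 0; 0, 0, 2], by rw [Matrix.det_fin_three]; decide⟩

theorem dm_mul (a b c : ZMod 5) : dm * us a b c = us (3 * a) b (2 * c) * dm := by
  apply ext3
  intro i j
  show (!![2, 0, 0; 0, 4, 0; 0, 0, 2] * !![1, a, b; 0, 1, c; 0, 0, 1] : Matrix _ _ (ZMod 5)) i j =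
     (!![1, 3 * a, b; 0, 1, 2 * c; 0, 0, 1] * !![2, 0, 0; 0, 4, 0; 0, 0, 2] : Matrix _ _ (ZMod 5)) i j
  have e : (5 : ZMod 5) = 0 := by decide
  fin_cases i <;> fin_cases j <;> simp [Matrix.mul_apply, Fin.sum_univ_three]
  · linear_combination (-2 * a) * e
  · ring
  · ring

theorem tr_val {i j : Fin 3} (h : i ≠ j) (c : ZMod 5) :
    (Matrix.SpecialLinearGroup.transvection h c).1 = 1 + Matrix.single i j c := rfl

/-- elements which normalize `VP` or `VL` generate `SL₃(5)` -/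
theorem gen {H : Subgroup SL35}
    (h1 : ∀ x : SL35, (∀ s t, ∃ s' t', x * us s t 0 = us s' t' 0 * x) → x ∈ H)
    (h2 : ∀ x : SL35, (∀ s t, ∃ s' t', x * us 0 s t = us 0 s' t' * x) → x ∈ H) (x : SL35) : x ∈ H := by
  have hus : ∀ a b c, us a b c ∈ H := by
    intro a b c
    apply h1
    intro s t
    refine ⟨s, t - s * c, ?_⟩
    rw [us_mul, us_mul]
    congr 1 <;> ring
  -- lower elementary elements
  have h21 : ∀ c : ZMod 5, Matrix.SpecialLinearGroup.transvection (show (2 : Fin 3) ≠ 1 by decide) c ∈ H := by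
    intro c
    apply h1
    intro s t
    refine ⟨s - t * c, t, ext3 fun i j => ?_⟩
    show ((1 + Matrix.single 2 1 c) * !![1, s, t; 0, 1, 0; 0, 0, 1] : Matrix _ _ (ZMod 5)) i j =
      (!![1, s - t * c, t; 0, 1, 0; 0, 0, 1] * (1 + Matrix.single 2 1 c) : Matrix _ _ (ZMod 5)) i j
    fin_cases i <;> fin_cases j <;> simp [Matrix.mul_apply, Fin.sum_univ_three, Matrix.single_apply, Matrix.one_apply]
  have h10 : ∀ c : ZMod 5, Matrix.SpecialLinearGroup.transvection (show (1 : Fin 3) ≠ 0 by decide) c ∈ H := by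
    intro c
    apply h2
    intro s t
    refine ⟨s, t + c * s, ext3 fun i j => ?_⟩
    show ((1 + Matrix.single 1 0 c) * !![1, 0, s; 0, 1, t; 0, 0, 1] : Matrix _ _ (ZMod 5)) i j =
      (!![1, 0, s; 0, 1, t + c * s; 0, 0, 1] * (1 + Matrix.single 1 0 c) : Matrix _ _ (ZMod 5)) i j
    fin_cases i <;> fin_cases j <;> simp [Matrix.mul_apply, Fin.sum_univ_three, Matrix.single_apply, Matrix.one_apply] <;> ring
  have h20 : ∀ c : ZMod 5, Matrix.SpecialLinearGroup.transvection (show (2 : Fin 3) ≠ 0 by decide) c ∈ H := by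
    intro c
    have e : Matrix.SpecialLinearGroup.transvection (show (2 : Fin 3) ≠ 0 by decide) c =
        Matrix.SpecialLinearGroup.transvection (show (2 : Fin 3) ≠ 1 by decide) 1 *
          Matrix.SpecialLinearGroup.transvection (show (1 : Fin 3) ≠ 0 by decide) c *
          Matrix.SpecialLinearGroup.transvection (show (2 : Fin 3) ≠ 1 by decide) (-1) *
          Matrix.SpecialLinearGroup.transvection (show (1 : Fin 3) ≠ 0 by decide) (-c) := by
      apply ext3
      intro i j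
      show (1 + Matrix.single 2 0 c : Matrix _ _ (ZMod 5)) i j = ((1 + Matrix.single 2 1 1) * (1 + Matrix.single 1 0 c) *
        (1 + Matrix.single 2 1 (-1)) * (1 + Matrix.single 1 0 (-c)) : Matrix _ _ (ZMod 5)) i j
      fin_cases i <;> fin_cases j <;> simp [Matrix.mul_apply, Fin.sum_univ_three, Matrix.single_apply, Matrix.one_apply]
    rw [e]
    exact mul_mem (mul_mem (mul_mem (h21 1) (h10 c)) (h21 (-1))) (h10 (-c))
  induction x using Cfsg.Agent.LieClassical.SLGen.transvection_induction with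
  | htransvec i j h c =>
    have hup : ∀ (a b d : ZMod 5), Matrix.SpecialLinearGroup.transvection h c = us a b d →
        Matrix.SpecialLinearGroup.transvection h c ∈ H := by
      intro a b d e
      rw [e]
      exact hus _ _ _
    fin_cases i <;> fin_cases j
    · exact absurd rfl h
    · refine hup c 0 0 (ext3 fun i j => ?_)
      show (1 + Matrix.single 0 1 c : Matrix _ _ (ZMod 5)) i j = !![1, c, 0; 0, 1, 0; 0, 0, 1] i j
      fin_cases i <;> fin_cases j <;> simp [Matrix.single_apply, Matrix.one_apply]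
    · refine hup 0 c 0 (ext3 fun i j => ?_)
      show (1 + Matrix.single 0 2 c : Matrix _ _ (ZMod 5)) i j = !![1, 0, c; 0, 1, 0; 0, 0, 1] i j
      fin_cases i <;> fin_cases j <;> simp [Matrix.single_apply, Matrix.one_apply]
    · exact h10 c
    · exact absurd rfl h
    · refine hup 0 0 c (ext3 fun i j => ?_)
      show (1 + Matrix.single 1 2 c : Matrix _ _ (ZMod 5)) i j = !![1, 0, 0; 0, 1, c; 0, 0, 1] i j
      fin_cases i <;> fin_cases j <;> simp [Matrix.single_apply, Matrix.one_apply]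
    · exact h20 c
    · exact h21 c
    · exact absurd rfl h
  | hmul A B hA hB => exact mul_mem hA hB

end Cfsg.Agent.H513.L5.ThB
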